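import Mathlib.AlgebraicGeometry.Morphisms.Finite
import Mathlib.AlgebraicGeometry.Morphisms.IsIso
import Mathlib.AlgebraicGeometry.Morphisms.QuasiSeparated
import Mathlib.RingTheory.Localization.Integral

/-!
A finite morphism over a quasi-compact open of an affine scheme extends to a finite morphism.
-/

set_option autoImplicit false
set_option linter.style.haveILetI false
set_option backward.isDefEq.respectTransparency false

universe u

open CategoryTheory AlgebraicGeometry TopologicalSpace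

namespace Groth.Agent.FiniteExtend

theorem exists_integral_gens {A C A' L : Type u} [CommRing A] [CommRing C] [CommRing A'] [CommRing L]
    [Algebra A C] [Algebra A A'] [Algebra C L] [Algebra A' L] [Algebra A L] [IsScalarTower A C L]
    [IsScalarTower A A' L] (f : A) [IsLocalization.Away f A'] [IsLocalization.Away (algebraMap A C f) L]
    [Module.Finite A' L] :
    ∃ T : Finset C, (∀ t ∈ T, IsIntegral A t) ∧ ∀ c : C, ∃ k : ℕ, f ^ k • c ∈ Algebra.adjoin A (T : Set C) := by
  classical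
  haveI : IsLocalization (Algebra.algebraMapSubmonoid C (Submonoid.powers f)) L := by
    rw [Algebra.algebraMapSubmonoid_powers]
    infer_instance
  obtain ⟨q, x, hx⟩ := Module.Finite.exists_fin (R := A') (M := L)
  choose cs hcs using fun l => IsLocalization.Away.surj (algebraMap A C f) (x l)
  have hint : ∀ l, ∃ e : ℕ, IsIntegral A (f ^ e • (hcs l).choose) := fun l => by
    obtain ⟨⟨_, m, rfl⟩, hm⟩ := IsIntegral.exists_multiple_integral_of_isLocalization (Submonoid.powers f)
      (algebraMap C L (hcs l).choose) (IsIntegral.of_finite A' _)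
    have hm' : IsIntegral A (algebraMap C L (f ^ m • (hcs l).choose)) := by
      rw [Algebra.smul_def, map_mul, ← IsScalarTower.algebraMap_apply, ← Algebra.smul_def]
      exact hm
    obtain ⟨_, ⟨m', rfl⟩, hm''⟩ := IsLocalization.exists_isIntegral_smul_of_isIntegral_map (Submonoid.powers f) hm'
    exact ⟨m' + m, by rw [pow_add, mul_smul]; exact hm''⟩
  choose e he using hint
  refine ⟨Finset.univ.image fun l => f ^ e l • (hcs l).choose, fun t ht => ?_, fun c => ?_⟩
  · obtain ⟨l, -, rfl⟩ := Finset.mem_image.1 ht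
    exact he l
  set N := Algebra.adjoin A (↑(Finset.univ.image fun l => f ^ e l • (hcs l).choose) : Set C)
  have key : ∀ z : L, ∃ (k : ℕ) (n : C), n ∈ N ∧ f ^ k • z = algebraMap C L n := fun z => by
    induction (hx.ge (Submodule.mem_top (x := z))) using Submodule.span_induction with
    | mem z hz =>
      obtain ⟨l, rfl⟩ := hz
      refine ⟨e l + cs l, _, Algebra.subset_adjoin (Finset.mem_image_of_mem _ (Finset.mem_univ l)), ?_⟩
      rw [Algebra.smul_def, Algebra.smul_def, map_mul, ← IsScalarTower.algebraMap_apply, ← (hcs l).choose_spec,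
        pow_add, map_mul, map_pow, map_pow, ← IsScalarTower.algebraMap_apply]
      ring
    | zero => exact ⟨0, 0, N.zero_mem, by simp⟩
    | add z w _ _ hz hw =>
      obtain ⟨k, n, hn, hkn⟩ := hz
      obtain ⟨k', n', hn', hkn'⟩ := hw
      refine ⟨k + k', f ^ k' • n + f ^ k • n', N.add_mem (N.smul_mem hn _) (N.smul_mem hn' _), ?_⟩
      rw [map_add, smul_add, pow_add, mul_smul, smul_comm (f ^ k), hkn, mul_smul, hkn',
        Algebra.smul_def, Algebra.smul_def, Algebra.smul_def, Algebra.smul_def, map_mul, map_mul,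
        ← IsScalarTower.algebraMap_apply, ← IsScalarTower.algebraMap_apply]
    | smul a z _ hz =>
      obtain ⟨k, n, hn, hkn⟩ := hz
      obtain ⟨⟨r, _, t, rfl⟩, hr⟩ := IsLocalization.surj (Submonoid.powers f) a
      refine ⟨t + k, r • n, N.smul_mem hn _, ?_⟩
      rw [pow_add, mul_smul, smul_comm (f ^ k), hkn]
      simp only [Algebra.smul_def] at hr ⊢
      rw [map_mul, ← IsScalarTower.algebraMap_apply, IsScalarTower.algebraMap_apply A A' L (f ^ t), ← mul_assoc,
        ← map_mul, mul_comm (algebraMap A A' (f ^ t)), hr, ← IsScalarTower.algebraMap_apply]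
  obtain ⟨k, n, hn, hkn⟩ := key (algebraMap C L c)
  have h0 : algebraMap C L (f ^ k • c) = algebraMap C L n := by
    rw [Algebra.smul_def, map_mul, ← IsScalarTower.algebraMap_apply, ← Algebra.smul_def, hkn]
  obtain ⟨⟨_, M, rfl⟩, hM⟩ := IsLocalization.exists_of_eq (M := Submonoid.powers (algebraMap A C f)) h0
  refine ⟨M + k, ?_⟩
  have hM' : f ^ (M + k) • c = f ^ M • n := by
    rw [pow_add, mul_smul, Algebra.smul_def (f ^ M), Algebra.smul_def (f ^ M), map_pow]
    exact hM
  rw [hM']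
  exact N.smul_mem hn _

/-- Over a basic open, a morphism from a qcqs scheme to an affine one is bijective on functions if it is
injective on global functions and global functions become global functions of the target. -/
theorem bijective_app_basicOpen {X Y : Scheme.{u}} [IsAffine Y] [CompactSpace X] [QuasiSeparatedSpace X]
    (i : X ⟶ Y) (hinj : Function.Injective i.appTop) (b : Γ(Y, ⊤))
    (hsurj : ∀ c, ∃ (k : ℕ) (y : Γ(Y, ⊤)), i.appTop y = i.appTop b ^ k * c) :
    Function.Bijective (i.app (Y.basicOpen b)) := by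
  haveI := (isAffineOpen_top Y).isLocalization_basicOpen b
  have hbu : ∀ k : ℕ, IsUnit ((Y.presheaf.map (homOfLE (le_top : Y.basicOpen b ≤ ⊤)).op b) ^ k) :=
    fun k => (RingedSpace.isUnit_res_basicOpen _ b).pow k
  have hnat : ∀ y, i.app (Y.basicOpen b) (Y.presheaf.map (homOfLE (le_top : Y.basicOpen b ≤ ⊤)).op y) =
      X.presheaf.map (homOfLE (le_top : i ⁻¹ᵁ Y.basicOpen b ≤ ⊤)).op (i.appTop y) := fun y =>
    congr($(i.naturality (homOfLE (le_top : Y.basicOpen b ≤ ⊤)).op) y)
  have hpre : i ⁻¹ᵁ Y.basicOpen b = X.basicOpen (i.appTop b) := Scheme.preimage_basicOpen _ _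
  have key : ∀ (V : X.Opens), V = X.basicOpen (i.appTop b) →
      letI : Algebra Γ(X, ⊤) Γ(X, V) := (X.presheaf.map (homOfLE le_top).op).hom.toAlgebra
      IsLocalization.Away (i.appTop b) Γ(X, V) := by
    rintro V rfl
    exact isLocalization_basicOpen_of_qcqs (U := (⊤ : X.Opens)) CompactSpace.isCompact_univ isQuasiSeparated_univ _
  letI : Algebra Γ(X, ⊤) Γ(X, i ⁻¹ᵁ Y.basicOpen b) := (X.presheaf.map (homOfLE le_top).op).hom.toAlgebra
  haveI := key _ hpre
  refine ⟨(injective_iff_map_eq_zero _).2 fun w hw => ?_, fun z => ?_⟩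
  · obtain ⟨k, c, hc⟩ := IsLocalization.Away.surj b w
    replace hc : w * (Y.presheaf.map (homOfLE (le_top : Y.basicOpen b ≤ ⊤)).op b) ^ k =
        Y.presheaf.map (homOfLE (le_top : Y.basicOpen b ≤ ⊤)).op c := hc
    have h0 : X.presheaf.map (homOfLE (le_top : i ⁻¹ᵁ Y.basicOpen b ≤ ⊤)).op (i.appTop c) =
        X.presheaf.map (homOfLE (le_top : i ⁻¹ᵁ Y.basicOpen b ≤ ⊤)).op (0 : Γ(X, ⊤)) := by
      rw [map_zero, ← hnat, ← hc, map_mul, hw, zero_mul]
    obtain ⟨⟨_, M, rfl⟩, hM⟩ := IsLocalization.exists_of_eq (M := Submonoid.powers (i.appTop b)) h0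
    have e1 : i.appTop (b ^ M * c) = 0 := by
      rw [map_mul, map_pow]
      exact hM.trans (mul_zero _)
    have e2 := congrArg (Y.presheaf.map (homOfLE (le_top : Y.basicOpen b ≤ ⊤)).op) (hinj (e1.trans (map_zero _).symm))
    rw [map_mul, map_pow, map_zero, (hbu M).mul_right_eq_zero, ← hc, (hbu k).mul_left_eq_zero] at e2
    exact e2
  · obtain ⟨k, c, hc⟩ := IsLocalization.Away.surj (i.appTop b) z
    replace hc : z * (X.presheaf.map (homOfLE (le_top : i ⁻¹ᵁ Y.basicOpen b ≤ ⊤)).op (i.appTop b)) ^ k =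
        X.presheaf.map (homOfLE (le_top : i ⁻¹ᵁ Y.basicOpen b ≤ ⊤)).op c := hc
    obtain ⟨k', y, hy⟩ := hsurj c
    refine ⟨Y.presheaf.map (homOfLE (le_top : Y.basicOpen b ≤ ⊤)).op y * ((hbu (k + k')).unit⁻¹).val, ?_⟩
    refine ((hbu (k + k')).map (i.app (Y.basicOpen b)).hom).mul_left_inj.1 ?_
    rw [← map_mul, mul_assoc, IsUnit.val_inv_mul, mul_one, hnat, hy, map_mul, map_pow, map_pow, hnat, ← hc]
    ring

theorem exists_finite_extension (A : Type u) [CommRing A] (U : (Spec (CommRingCat.of A)).Opens)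
    (hU : IsCompact (U : Set (Spec (CommRingCat.of A)))) (U' : Scheme.{u}) (g : U' ⟶ (U : Scheme.{u})) [IsFinite g] :
    ∃ (B : Type u) (_ : CommRing B) (_ : Algebra A B) (i : U' ⟶ Spec (CommRingCat.of B)),
      Module.Finite A B ∧ IsPullback i g (Spec.map (CommRingCat.ofHom (algebraMap A B))) U.ι := by
  classical
  let S := Spec (CommRingCat.of A)
  haveI : CompactSpace U.toScheme := isCompact_iff_compactSpace.1 hU
  haveI : CompactSpace U' := QuasiCompact.compactSpace_of_compactSpace g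
  haveI : QuasiSeparatedSpace U' := quasiSeparatedSpace_of_quasiSeparated (g ≫ U.ι)
  let q : U' ⟶ S := g ≫ U.ι
  let φ : CommRingCat.of A ⟶ Γ(U', ⊤) := (Scheme.ΓSpecIso (CommRingCat.of A)).inv ≫ q.appTop
  letI : Algebra A Γ(U', ⊤) := φ.hom.toAlgebra
  -- a finite cover of `U` by basic opens
  choose f hfU hxf using fun x : (U : Set S) =>
    let ⟨a, ha, hx⟩ := (isAffineOpen_top S).exists_basicOpen_le (V := U) ⟨x.1, x.2⟩ trivial
    (⟨(Scheme.ΓSpecIso (CommRingCat.of A)).hom a, by simpa using ha, by simpa using hx⟩ :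
      ∃ r : A, S.basicOpen ((Scheme.ΓSpecIso (CommRingCat.of A)).inv r) ≤ U ∧
        x.1 ∈ S.basicOpen ((Scheme.ΓSpecIso (CommRingCat.of A)).inv r))
  let fs : ↥(U : Set S) → Γ(S, ⊤) := fun x => (Scheme.ΓSpecIso (CommRingCat.of A)).inv (f x)
  obtain ⟨t, ht⟩ := hU.elim_finite_subcover (fun x : (U : Set S) => (S.basicOpen (fs x) : Set S))
    (fun x => (S.basicOpen (fs x)).2) (fun x hx => Set.mem_iUnion.2 ⟨⟨x, hx⟩, hxf _⟩)
  have hpre : ∀ x, q ⁻¹ᵁ S.basicOpen (fs x) = U'.basicOpen (algebraMap A Γ(U', ⊤) (f x)) := fun x => by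
    rw [Scheme.preimage_basicOpen]; rfl
  have haff : ∀ x, IsAffineOpen (U.ι ⁻¹ᵁ S.basicOpen (fs x)) := fun x =>
    ((isAffineOpen_top S).basicOpen _).preimage_of_isOpenImmersion U.ι (by rw [Scheme.Opens.opensRange_ι]; exact hfU x)
  have hqaff : ∀ x, IsAffineOpen (q ⁻¹ᵁ S.basicOpen (fs x)) := fun x => (haff x).preimage g
  have hqfin : ∀ x, (q.app (S.basicOpen (fs x))).hom.Finite := fun x => by
    have h1 : q.app (S.basicOpen (fs x)) = U.ι.app (S.basicOpen (fs x)) ≫ g.app (U.ι ⁻¹ᵁ S.basicOpen (fs x)) :=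
      Scheme.Hom.comp_app _ _ _
    rw [h1, CommRingCat.hom_comp]
    haveI : IsIso (U.ι.app (S.basicOpen (fs x))) :=
      U.ι.isIso_app _ (by rw [Scheme.Opens.opensRange_ι]; exact hfU x)
    exact (IsFinite.finite_app g _ (haff x)).comp
      (RingHom.Finite.of_surjective _ (ConcreteCategory.bijective_of_isIso (U.ι.app _)).surjective)
  have hgens : ∀ x, ∃ T : Finset Γ(U', ⊤), (∀ t ∈ T, IsIntegral A t) ∧
      ∀ c, ∃ k : ℕ, f x ^ k • c ∈ Algebra.adjoin A (T : Set Γ(U', ⊤)) := fun x => by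
    let D := S.basicOpen (fs x)
    let aD : CommRingCat.of A ⟶ Γ(S, D) :=
      (Scheme.ΓSpecIso (CommRingCat.of A)).inv ≫ S.presheaf.map (homOfLE le_top).op
    letI : Algebra A Γ(S, D) := aD.hom.toAlgebra
    letI : Algebra Γ(U', ⊤) Γ(U', q ⁻¹ᵁ D) := (U'.presheaf.map (homOfLE le_top).op).hom.toAlgebra
    letI : Algebra Γ(S, D) Γ(U', q ⁻¹ᵁ D) := (q.app D).hom.toAlgebra
    letI : Algebra A Γ(U', q ⁻¹ᵁ D) := (φ ≫ U'.presheaf.map (homOfLE le_top).op).hom.toAlgebra
    haveI : IsScalarTower A Γ(U', ⊤) Γ(U', q ⁻¹ᵁ D) := IsScalarTower.of_algebraMap_eq' rfl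
    haveI : IsScalarTower A Γ(S, D) Γ(U', q ⁻¹ᵁ D) := IsScalarTower.of_algebraMap_eq' (by
      show (φ ≫ U'.presheaf.map (homOfLE le_top).op).hom = (q.app D).hom.comp aD.hom
      rw [← CommRingCat.hom_comp]
      congr 1
      simp only [φ, aD, Category.assoc]
      congr 1
      exact (q.naturality (homOfLE (le_top : D ≤ ⊤)).op).symm)
    haveI : Module.Finite Γ(S, D) Γ(U', q ⁻¹ᵁ D) := hqfin x
    haveI : IsLocalization.Away (f x) Γ(S, D) := by
      let e : Γ(S, ⊤) ≃+* A := (Scheme.ΓSpecIso (CommRingCat.of A)).commRingCatIsoToRingEquiv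
      letI : Algebra Γ(S, ⊤) Γ(S, D) := (S.presheaf.map (homOfLE le_top).op).hom.toAlgebra
      have key : ∀ (V : S.Opens), V = S.basicOpen (fs x) →
          letI : Algebra Γ(S, ⊤) Γ(S, V) := (S.presheaf.map (homOfLE le_top).op).hom.toAlgebra
          IsLocalization.Away (fs x) Γ(S, V) := by
        rintro V rfl; exact (isAffineOpen_top S).isLocalization_basicOpen (fs x)
      haveI : IsLocalization.Away (fs x) Γ(S, D) := key D rfl
      have hmap : (Submonoid.powers (fs x)).map e = Submonoid.powers (f x) := by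
        rw [Submonoid.map_powers]
        congr 1
        exact congr($((Scheme.ΓSpecIso (CommRingCat.of A)).inv_hom_id) (f x))
      have := IsLocalization.isLocalization_of_base_ringEquiv (Submonoid.powers (fs x)) Γ(S, D) e
      rw [hmap] at this
      exact this
    haveI : IsLocalization.Away (algebraMap A Γ(U', ⊤) (f x)) Γ(U', q ⁻¹ᵁ D) := by
      have key : ∀ (V : U'.Opens), V = U'.basicOpen (algebraMap A Γ(U', ⊤) (f x)) →
          letI : Algebra Γ(U', ⊤) Γ(U', V) := (U'.presheaf.map (homOfLE le_top).op).hom.toAlgebra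
          IsLocalization.Away (algebraMap A Γ(U', ⊤) (f x)) Γ(U', V) := by
        rintro V rfl
        exact isLocalization_basicOpen_of_qcqs (U := (⊤ : U'.Opens)) CompactSpace.isCompact_univ
          isQuasiSeparated_univ (algebraMap A Γ(U', ⊤) (f x))
      exact key _ (hpre x)
    exact exists_integral_gens (A' := Γ(S, D)) (L := Γ(U', q ⁻¹ᵁ D)) (f x)
  choose T hTint hT using hgens
  let B := Algebra.adjoin A ((t.biUnion T : Finset Γ(U', ⊤)) : Set Γ(U', ⊤))
  haveI hBfin : Module.Finite A B := by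
    refine ⟨(Submodule.fg_top _).2 (fg_adjoin_of_finite (Finset.finite_toSet _) fun c hc => ?_)⟩
    obtain ⟨x, -, hc⟩ := Finset.mem_biUnion.1 (Finset.mem_coe.1 hc)
    exact hTint x c hc
  have hBT : ∀ x ∈ t, ∀ c, ∃ k : ℕ, f x ^ k • c ∈ B := fun x hx c => by
    obtain ⟨k, hk⟩ := hT x c
    exact ⟨k, Algebra.adjoin_mono (Finset.coe_subset.2 (Finset.subset_biUnion_of_mem T hx)) hk⟩
  let ψ : CommRingCat.of B ⟶ Γ(U', ⊤) := CommRingCat.ofHom B.val.toRingHom
  let i : U' ⟶ Spec (CommRingCat.of B) := U'.toSpecΓ ≫ Spec.map ψ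
  let π := Spec.map (CommRingCat.ofHom (algebraMap A B))
  have hi : i ≫ π = q := by
    show (U'.toSpecΓ ≫ Spec.map ψ) ≫ Spec.map _ = q
    rw [Category.assoc, ← Spec.map_comp]
    have hφ : CommRingCat.ofHom (algebraMap A B) ≫ ψ = φ := by ext a; rfl
    rw [hφ, Spec.map_comp, ← Category.assoc, ← Scheme.toSpecΓ_naturality, Category.assoc, toSpecΓ_SpecMap_ΓSpecIso_inv]
    exact Category.comp_id _
  let V := π ⁻¹ᵁ U
  have hiV : i ⁻¹ᵁ V = ⊤ := top_le_iff.1 fun z _ => by
    show π (i z) ∈ U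
    rw [← Scheme.Hom.comp_apply, hi]
    exact (g z).2
  -- `i` is an isomorphism over each basic open
  have hD : ∀ x : t, IsIso (i ∣_ (π ⁻¹ᵁ S.basicOpen (fs x.1))) := fun x => by
    let b : Γ(Spec (CommRingCat.of B), ⊤) := π.appTop (fs x.1)
    have hπ : π ⁻¹ᵁ S.basicOpen (fs x.1) = (Spec (CommRingCat.of B)).basicOpen b := Scheme.preimage_basicOpen _ _
    rw [hπ]
    let D := (Spec (CommRingCat.of B)).basicOpen b
    haveI : IsAffine D.toScheme := (isAffineOpen_top _).basicOpen b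
    have hpreD : i ⁻¹ᵁ D = q ⁻¹ᵁ S.basicOpen (fs x.1) := by
      rw [← hi]
      exact congrArg (fun W => i ⁻¹ᵁ W) hπ.symm
    have hiA : IsAffineOpen (i ⁻¹ᵁ D) := hpreD ▸ hqaff x.1
    have hb : i.appTop b = algebraMap A Γ(U', ⊤) (f x.1) := by
      show (π.appTop ≫ i.appTop) (fs x.1) = _
      rw [← Scheme.Hom.comp_appTop, hi]
      rfl
    have hinc : ∀ c : B, i.appTop ((Scheme.ΓSpecIso (CommRingCat.of B)).inv c) = (c : Γ(U', ⊤)) := fun c => by
      show ((Scheme.ΓSpecIso (CommRingCat.of B)).inv ≫ (U'.toSpecΓ ≫ Spec.map ψ).appTop) c = _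
      rw [Scheme.Hom.comp_appTop, ← Scheme.ΓSpecIso_inv_naturality_assoc, Scheme.toSpecΓ_appTop, Iso.inv_hom_id,
        Category.comp_id]
      rfl
    have hbij : Function.Bijective (i.app D) := by
      have hiso : Function.Bijective ((Scheme.ΓSpecIso (CommRingCat.of B)).inv) :=
        ConcreteCategory.bijective_of_isIso _
      refine bijective_app_basicOpen i (fun y y' h => ?_) b fun c => ?_
      · obtain ⟨y, rfl⟩ := hiso.2 y
        obtain ⟨y', rfl⟩ := hiso.2 y'
        rw [hinc, hinc] at h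
        rw [Subtype.ext h]
      · obtain ⟨k, hk⟩ := hBT x.1 x.2 c
        exact ⟨k, (Scheme.ΓSpecIso (CommRingCat.of B)).inv ⟨_, hk⟩, by
          rw [hinc, hb]
          exact (Algebra.smul_def _ _).trans (by rw [map_pow])⟩
    haveI : IsIso (i.app D) := (ConcreteCategory.isIso_iff_bijective _).2 hbij
    refine (HasAffineProperty.iff_of_isAffine (P := MorphismProperty.isomorphisms Scheme.{u})).2 ⟨hiA, ?_⟩
    rw [morphismRestrict_appTop]
    haveI : IsIso (i.app (D.ι ''ᵁ ⊤)) := by rwa [Scheme.Opens.ι_image_top]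
    infer_instance
  haveI hVi : IsIso (i ∣_ V) := by
    refine IsZariskiLocalAtTarget.of_iSup_eq_top (P := MorphismProperty.isomorphisms Scheme.{u})
      (fun x : t => V.ι ⁻¹ᵁ (π ⁻¹ᵁ S.basicOpen (fs x.1))) ?_ fun x => ?_
    · refine top_le_iff.1 fun z _ => ?_
      obtain ⟨x, hx, hz⟩ := Set.mem_iUnion₂.1 (ht z.2)
      exact Opens.mem_iSup.2 ⟨⟨x, hx⟩, hz⟩
    · refine (MorphismProperty.arrow_mk_iso_iff (MorphismProperty.isomorphisms Scheme.{u}) (morphismRestrictRestrict i V _)).2 ?_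
      rw [Scheme.Hom.image_preimage_eq_opensRange_inf, Scheme.Opens.opensRange_ι,
        inf_eq_right.2 (show π ⁻¹ᵁ S.basicOpen (fs x.1) ≤ V from π.preimage_mono (hfU x.1))]
      exact hD x
  haveI : IsOpenImmersion i := by
    have e : i = ((Scheme.topIso U').inv ≫ U'.homOfLE hiV.ge ≫ (i ∣_ V)) ≫ V.ι := by
      rw [Category.assoc, Category.assoc, morphismRestrict_ι, Scheme.homOfLE_ι_assoc, ← Scheme.topIso_hom,
        Iso.inv_hom_id_assoc]
    haveI : IsIso (U'.homOfLE hiV.ge) := by rw [← Scheme.isoOfEq_hom U' hiV.symm]; infer_instance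
    rw [e]
    infer_instance
  refine ⟨B, inferInstance, inferInstance, i, hBfin, (IsOpenImmersion.isPullback g i U.ι π hi ?_).flip⟩
  rw [Scheme.Opens.opensRange_ι]
  refine le_antisymm (fun z hz => ?_) ?_
  · obtain ⟨w, hw⟩ := (ConcreteCategory.bijective_of_isIso (i ∣_ V).base).2 ⟨z, hz⟩
    exact ⟨w.1, (morphismRestrict_base_coe i V w).symm.trans (congrArg Subtype.val hw)⟩
  · rintro _ ⟨w, rfl⟩
    exact (hiV.ge (show w ∈ (⊤ : U'.Opens) from trivial) :)

end Groth.Agent.FiniteExtend
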